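import Cfsg.Agent.Lib.Spor.Cos.McLMult.Stab

/-! Parts of words along the transversal and the sum of their shifts. -/

set_option autoImplicit false
set_option maxRecDepth 100000
set_option maxHeartbeats 4000000

open Cfsg Cfsg.Agent.Spor.Cos Cfsg.Agent.Grp.SchurM

namespace Cfsg.Agent.Spor.Cos.McLMult

/-- Letters packed some bits each. -/
noncomputable def decB (b : ℕ) (fuel E : ℕ) : List ℕ :=
  Nat.rec (motive := fun _ => ℕ → List ℕ) (fun _ => [])
    (fun _ r E => bif Nat.beq E 0 then [] else (E % 2 ^ b - 1) :: r (E >>> b)) fuel E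

/-- The word moving the first point to a point. -/
noncomputable def tW (i : ℕ) : List ℕ := decB 4 tLen (tT.at i)

/-- The part of a generator at a point, in the subgroup's generators. -/
noncomputable def hs (s i : ℕ) : List ℕ := decB 2 hsLen (hsT.at (5 * i + s))

/-- A word of the subgroup in the group's generators. -/
noncomputable def flatH (v : List ℕ) : List ℕ :=
  List.rec (motive := fun _ => List ℕ) [] (fun s _ r => hW.getD s [] ++ r) v

/-- The part of a word at a point, and the image of the point. -/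
noncomputable def liftW (u : List ℕ) (i : ℕ) : List ℕ × ℕ :=
  List.rec (motive := fun _ => List ℕ × ℕ) ([], i)
    (fun s _ r => (hs s r.2 ++ r.1, McLOut.actA.im r.2 s)) u

/-- The part of a generator is right. -/
noncomputable def chkPart (i : ℕ) : Bool :=
  (List.range 5).all fun s => (hs s i).all (fun x => Nat.blt x 3) &&
    Triple.sameW McLOut.actA McLOut.ptsA (tW (McLOut.actA.im i s) ++ flatH (hs s i)) (s :: tW i)

theorem part_ok : ∀ i < 275, chkPart i = true :=
  of_blocks (size := 25) (b := 11) (by decide) (by decide) fun j hj => by interval_cases j <;> decide +kernel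

theorem ev_flatH : ∀ v : List ℕ, (∀ s ∈ v, s < 3) → ((ev hT v : K) : G) = ev McLOut.g (flatH v)
  | [], _ => rfl
  | s :: v, h => by
    show (hT s : G) * ((ev hT v : K) : G) = ev McLOut.g (hW.getD s [] ++ flatH v)
    rw [ev_append, coe_hT (h s (List.mem_cons_self ..)), ev_flatH v fun x hx => h x (List.mem_cons_of_mem _ hx)]

theorem hs_lt {s i : ℕ} (hs' : s < 5) (hi : i < 275) : ∀ x ∈ hs s i, x < 3 := fun x hx =>
  Nat.le_of_ble_eq_true (List.all_eq_true.1
    (Bool.and_eq_true_iff.1 (List.all_eq_true.1 (part_ok i hi) s (List.mem_range.2 hs'))).1 x hx)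

theorem hs_eq {s i : ℕ} (hs' : s < 5) (hi : i < 275) :
    ev McLOut.g (tW (McLOut.actA.im i s)) * ((ev hT (hs s i) : K) : G) = McLOut.g s * ev McLOut.g (tW i) := by
  rw [ev_flatH _ (hs_lt hs' hi), ← ev_append]
  exact McLOut.eq_of_same (Bool.and_eq_true_iff.1 (List.all_eq_true.1 (part_ok i hi) s (List.mem_range.2 hs'))).2

theorem im_lt {s i : ℕ} (hs' : s < 5) (hi : i < 275) : McLOut.actA.im i s < 275 := by
  have := List.all_eq_true.1 (McLOut.homA.inv i hi) s (List.mem_range.2 hs')
  simp only [force_eq, Bool.and_eq_true] at this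
  exact Nat.le_of_ble_eq_true this.1

theorem lift_spec : ∀ (u : List ℕ), (∀ s ∈ u, s < 5) → ∀ i < 275,
    (liftW u i).2 = McLOut.actA.go u i ∧ McLOut.actA.go u i < 275 ∧ (∀ x ∈ (liftW u i).1, x < 3) ∧
      ev McLOut.g (tW (McLOut.actA.go u i)) * ((ev hT (liftW u i).1 : K) : G) =
        ev McLOut.g u * ev McLOut.g (tW i)
  | [], _, i, hi => ⟨rfl, hi, fun _ hx => absurd hx List.not_mem_nil, by
      show ev McLOut.g (tW i) * ((1 : K) : G) = 1 * _
      rw [Subgroup.coe_one, mul_one, one_mul]⟩
  | s :: u, h, i, hi => by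
    obtain ⟨h1, h2, h3, h4⟩ := lift_spec u (fun x hx => h x (List.mem_cons_of_mem _ hx)) i hi
    have hs' := h s (List.mem_cons_self ..)
    show McLOut.actA.im (liftW u i).2 s = _ ∧ _ ∧ (∀ x ∈ hs s (liftW u i).2 ++ (liftW u i).1, x < 3) ∧
      _ * ((ev hT (hs s (liftW u i).2 ++ (liftW u i).1) : K) : G) = McLOut.g s * ev McLOut.g u * _
    rw [h1, Act.go_cons]
    refine ⟨rfl, im_lt hs' h2, fun x hx => (List.mem_append.1 hx).elim (hs_lt hs' h2 x) (h3 x), ?_⟩
    rw [ev_append, Subgroup.coe_mul, ← mul_assoc, hs_eq hs' h2, mul_assoc, h4, mul_assoc]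

/-- The words at the point `i` and at the image of `i`. -/
noncomputable def both (u w : List ℕ) (i : ℕ) : List ℕ :=
  (liftW u (McLOut.actA.go w i)).1 ++ (liftW w i).1

/-- The difference of the shifts at a point. -/
noncomputable def valAt (i : ℕ) : ℕ :=
  (signD.trk signD.root (both pairU pairW i)).2 + (3 - (signD.trk signD.root (both pairW pairU i)).2 % 3)

theorem value_ne : Nat.beq (((List.range 275).map valAt).sum % 3) 0 = false := by decide +kernel

end Cfsg.Agent.Spor.Cos.McLMult
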