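import Cfsg.Agent.Lib.Grp.SchurM.Transfer
import Cfsg.Agent.Lib.Spor.Cos.McLMult.Part

/-! A triple cover by transfer from the subgroup fixing a point. -/

set_option autoImplicit false
set_option maxRecDepth 100000
set_option maxHeartbeats 4000000

open Cfsg Cfsg.Agent.Spor.Cos Cfsg.Agent.Grp.SchurM

namespace Cfsg.Agent.Spor.Cos.McLMult

theorem pair_lt : (∀ s ∈ pairU, s < 5) ∧ ∀ s ∈ pairW, s < 5 := by decide +kernel

theorem pair_comm : ev McLOut.g (pairU ++ pairW) = ev McLOut.g (pairW ++ pairU) :=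
  McLOut.eq_of_same (by decide +kernel)

/-- The action of the subgroup on the sets. -/
noncomputable def thD : K →* Equiv.Perm (Fin signD.B.N) := exists_homD.choose

theorem homD : signD.B.Hom hT thD := exists_homD.choose_spec

theorem homC : signD.C.Hom hT (1 : K →* Equiv.Perm (Fin signD.C.N)) := homOne

instance : NeZero signD.p := ⟨by decide⟩

/-- The cover of the subgroup. -/
abbrev Cov : Type _ := ↥(signD.cov hT thD)

/-- The root. -/
def rootD : signD.Pt := ⟨signD.root, okD.root_lt⟩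

/-- The cover, seen in the whole group. -/
noncomputable def rho : Cov →* G := K.subtype.comp (signD.proj hT thD)

theorem proj_of_rho {z : Cov} (h : rho z = 1) : signD.proj hT thD z = 1 := Subtype.ext h

theorem rho_central : rho.ker ≤ Subgroup.center Cov := fun z hz => Subgroup.mem_center_iff.2 fun v => by
  obtain ⟨d, hd⟩ := okD.const_of_mem homD homC rfl z.2 (proj_of_rho hz)
  obtain ⟨τ, k1, -⟩ := okD.good_of_mem homD homC rfl v.2
  refine Subtype.ext (Prod.ext ?_ ?_)
  · show v.1.1 * z.1.1 = z.1.1 * v.1.1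
    rw [hd, k1, SignTab.lift_mul, SignTab.lift_mul, mul_one, one_mul]
    congr 1
    funext x
    simp only [map_one, Equiv.Perm.one_apply, add_comm]
  · show v.1.2 * z.1.2 = z.1.2 * v.1.2
    rw [show z.1.2 = 1 from proj_of_rho hz, mul_one, one_mul]

/-- The shift of a kernel element. -/
noncomputable def chi : rho.ker →* Multiplicative (ZMod 3) where
  toFun z := Multiplicative.ofAdd (SignTab.kval rootD z.1 : ZMod signD.p)
  map_one' := rfl
  map_mul' a b :=
    (congrArg Multiplicative.ofAdd (okD.kval_mul homD homC rfl rootD (proj_of_rho a.2) (proj_of_rho b.2))).trans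
      (ofAdd_add _ _)

/-- The lift of a word of the subgroup. -/
noncomputable def wl (v : List ℕ) (hv : ∀ x ∈ v, x < 3) : Cov := SignTab.wordLift signD hT thD v hv

theorem rho_wl (v : List ℕ) (hv : ∀ x ∈ v, x < 3) : rho (wl v hv) = ((ev hT v : K) : G) :=
  congrArg Subtype.val (SignTab.proj_wordLift (S := signD) (g := hT) (π := thD) hv)

theorem wl_mul (v w : List ℕ) (hv : ∀ x ∈ v, x < 3) (hw : ∀ x ∈ w, x < 3) (h : ∀ x ∈ v ++ w, x < 3) :
    wl v hv * wl w hw = wl (v ++ w) h :=
  Subtype.ext (ev_append (signD.xs hT thD) v w).symm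

/-- The transversal. -/
noncomputable def tt (i : Fin McLOut.actA.N) : G := ev McLOut.g (tW i.1)

/-- The part of a word at a point. -/
noncomputable def part (u : List ℕ) (hu : ∀ s ∈ u, s < 5) (i : Fin McLOut.actA.N) : Cov :=
  wl (liftW u i.1).1 (lift_spec u hu i.1 i.2).2.2.1

theorem rho_part (u : List ℕ) (hu : ∀ s ∈ u, s < 5) (i : Fin McLOut.actA.N) :
    rho (part u hu i) = (tt (McLOut.pi (ev McLOut.g u) i))⁻¹ * ev McLOut.g u * tt i := by
  rw [part, rho_wl, mul_assoc, eq_inv_mul_iff_mul_eq, tt, McLOut.homA.apply_ev u hu i]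
  exact (lift_spec u hu i.1 i.2).2.2.2

theorem both_lt {u w : List ℕ} (hu : ∀ s ∈ u, s < 5) (hw : ∀ s ∈ w, s < 5) (i : Fin McLOut.actA.N) :
    ∀ x ∈ both u w i.1, x < 3 := fun x hx => (List.mem_append.1 hx).elim
  ((lift_spec u hu _ (lift_spec w hw i.1 i.2).2.1).2.2.1 x) ((lift_spec w hw i.1 i.2).2.2.1 x)

theorem part_mul {u w : List ℕ} (hu : ∀ s ∈ u, s < 5) (hw : ∀ s ∈ w, s < 5) (i : Fin McLOut.actA.N) :
    part u hu (McLOut.pi (ev McLOut.g w) i) * part w hw i = wl (both u w i.1) (both_lt hu hw i) := by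
  have e : (liftW u (McLOut.pi (ev McLOut.g w) i : ℕ)).1 ++ (liftW w i.1).1 = both u w i.1 := by
    rw [McLOut.homA.apply_ev w hw i]; rfl
  rw [part, part, wl_mul _ _ _ _ (e ▸ both_lt hu hw i)]
  exact Subtype.ext (congrArg (ev (signD.xs hT thD)) e)

theorem parts_commute {H : Type*} [Group H] {ι : Type*} (π : H →* Equiv.Perm ι) (t : ι → H) {a b : H}
    (hab : a * b = b * a) (i : ι) :
    (t (π a (π b i)))⁻¹ * a * t (π b i) * ((t (π b i))⁻¹ * b * t i) =
      (t (π b (π a i)))⁻¹ * b * t (π a i) * ((t (π a i))⁻¹ * a * t i) := by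
  have e2 : π a (π b i) = π b (π a i) := by
    rw [← Equiv.Perm.mul_apply, ← Equiv.Perm.mul_apply, ← map_mul, ← map_mul, hab]
  rw [e2]
  calc _ = (t (π b (π a i)))⁻¹ * (a * b) * t i := by group
    _ = _ := by rw [hab]; group

theorem uw_comm : ev McLOut.g pairU * ev McLOut.g pairW = ev McLOut.g pairW * ev McLOut.g pairU := by
  rw [← ev_append, ← ev_append, pair_comm]

/-- The two orders at a point. -/
noncomputable def liftUW (i : Fin McLOut.actA.N) : Cov := wl (both pairU pairW i.1) (both_lt pair_lt.1 pair_lt.2 i)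

/-- The other order. -/
noncomputable def liftWU (i : Fin McLOut.actA.N) : Cov := wl (both pairW pairU i.1) (both_lt pair_lt.2 pair_lt.1 i)

theorem quot_mem (i : Fin McLOut.actA.N) : liftUW i * (liftWU i)⁻¹ ∈ rho.ker := by
  rw [MonoidHom.mem_ker, liftUW, liftWU, ← part_mul pair_lt.1 pair_lt.2, ← part_mul pair_lt.2 pair_lt.1, map_mul rho, map_inv, mul_inv_eq_one, map_mul rho,
    map_mul rho, rho_part, rho_part, rho_part, rho_part]
  exact parts_commute McLOut.pi tt uw_comm i

theorem chi_quot (i : Fin McLOut.actA.N) :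
    chi ⟨_, quot_mem i⟩ = Multiplicative.ofAdd (valAt i.1 : ZMod 3) := by
  refine congrArg Multiplicative.ofAdd ?_
  obtain ⟨d, hd⟩ := okD.const_of_mem homD homC rfl (liftUW i * (liftWU i)⁻¹).2 (proj_of_rho (quot_mem i))
  have e1 : ((liftUW i).1.1 (rootD, 0)).2 = _ :=
    (SignTab.trk_spec homD _ (both_lt pair_lt.1 pair_lt.2 i) rootD).2
  have e2 : ((liftWU i).1.1 (rootD, 0)).2 = _ :=
    (SignTab.trk_spec homD _ (both_lt pair_lt.2 pair_lt.1 i) rootD).2
  have h : (liftUW i).1.1 (rootD, 0) = (liftUW i * (liftWU i)⁻¹).1.1 ((liftWU i).1.1 (rootD, 0)) := by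
    rw [← Equiv.Perm.mul_apply, ← Prod.fst_mul, ← Subgroup.coe_mul, inv_mul_cancel_right]
  rw [hd, SignTab.lift_apply] at h
  have h' : ((liftUW i).1.1 (rootD, 0)).2 = ((liftWU i).1.1 (rootD, 0)).2 + d := congrArg Prod.snd h
  rw [e1, e2] at h'
  show ((liftUW i * (liftWU i)⁻¹).1.1 (rootD, 0)).2 = _
  rw [hd, SignTab.lift_apply, zero_add]
  show d = ((valAt i.1 : ℕ) : ZMod 3)
  rw [valAt, Nat.cast_add, Nat.cast_sub (Nat.mod_lt _ (by norm_num)).le, ZMod.natCast_mod, ZMod.natCast_self,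
    zero_sub, ← sub_eq_add_neg]
  exact eq_sub_of_add_eq ((add_comm _ _).trans h'.symm)

theorem exists_cover : ∃ (Δ : Type) (_ : Group Δ) (_ : Finite Δ) (q : Δ →* G),
    Cfsg.IsStemExtension q ∧ Nat.card q.ker = 3 := by
  have : Finite (Equiv.Perm signD.Sheet × K) := okD.finite
  refine exists_stem_transfer Nat.prime_three McLOut.pi tt rho rho_central chi McLOut.g_gen ?_ uw_comm
    (rho_part pairU pair_lt.1) (rho_part pairW pair_lt.2) (z := fun i => ⟨_, quot_mem i⟩) (fun i => ?_) ?_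
  · rintro _ ⟨s, hs', rfl⟩
    have h1 : ∀ x ∈ [s], x < 5 := by simpa using hs'
    refine ⟨part [s] h1, fun i => ?_⟩
    have := rho_part [s] h1 i
    rwa [show ev McLOut.g [s] = McLOut.g s from mul_one _] at this
  · rw [part_mul pair_lt.1 pair_lt.2, part_mul pair_lt.2 pair_lt.1]
    exact inv_mul_cancel_right _ _
  · rw [Finset.prod_congr rfl fun i _ => chi_quot i, ← ofAdd_sum, ← Nat.cast_sum, Ne, ofAdd_eq_one,
      ZMod.natCast_eq_zero_iff, Nat.dvd_iff_mod_eq_zero]
    intro h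
    have hsum : (∑ i : Fin McLOut.actA.N, valAt i.1) = ((List.range 275).map valAt).sum :=
      Fin.sum_univ_eq_sum_range valAt 275
    rw [hsum] at h
    exact Bool.false_ne_true (value_ne.symm.trans (h ▸ Nat.beq_refl 0))

end Cfsg.Agent.Spor.Cos.McLMult
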