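import Cfsg.Agent.Lib.Grp.SchurM.SignValue
import Cfsg.Agent.Lib.Grp.SchurM.SubsetAct
import Cfsg.Agent.Lib.Spor.Cos.McLOut.Cent
import Cfsg.Agent.Lib.Spor.Cos.McLMult.Data

/-! A subgroup fixing a point, with shifts modulo three on 126 sets of forty points. -/

set_option autoImplicit false
set_option maxRecDepth 100000
set_option maxHeartbeats 4000000

open Cfsg Cfsg.Agent.Spor.Cos Cfsg.Agent.Grp.SchurM

namespace Cfsg.Agent.Spor.Cos.McLMult

/-- The group on 275 points. -/
abbrev G : Type _ := ↥McLOut.H

/-- The subgroup. -/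
noncomputable def K : Subgroup G := Subgroup.closure {y | ∃ s < 3, ev McLOut.g (hW.getD s []) = y}

/-- Its generators. -/
noncomputable def hT (s : ℕ) : K :=
  if h : s < 3 then ⟨ev McLOut.g (hW.getD s []), Subgroup.subset_closure ⟨s, h, rfl⟩⟩ else 1

theorem coe_hT {s : ℕ} (h : s < 3) : (hT s : G) = ev McLOut.g (hW.getD s []) := by rw [hT, dif_pos h]

theorem hT_out (s : ℕ) (hs : 3 ≤ s) : hT s = 1 := by rw [hT, dif_neg (Nat.not_lt.2 hs)]

theorem hW_lt : ∀ s < 3, ∀ x ∈ hW.getD s [], x < 5 := by decide +kernel

/-- A row of the table is the row of the words. -/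
noncomputable def chkK (p : ℕ) : Bool :=
  actK.chkInv p && (List.range 3).all fun s => Nat.beq (actK.im p s) (McLOut.actA.go (hW.getD s []) p)

theorem k_ok : ∀ p < 275, chkK p = true :=
  of_blocks (size := 70) (b := 4) (by decide) (by decide) fun j hj => by interval_cases j <;> decide +kernel

/-- The action on the points. -/
noncomputable def piK : K →* Equiv.Perm (Fin actK.N) := McLOut.pi.comp K.subtype

theorem k_inv : ∀ p < actK.N, actK.chkInv p = true := fun p hp => (Bool.and_eq_true_iff.1 (k_ok p hp)).1

theorem homK : actK.Hom hT piK := by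
  refine ⟨k_inv, fun s => Equiv.ext fun p => Fin.ext ?_⟩
  rcases Nat.lt_or_ge s 3 with hs | hs
  · rw [actK.perm_apply k_inv hs]
    show (McLOut.pi (hT s : G) p : ℕ) = _
    rw [coe_hT hs]
    exact (McLOut.homA.apply_ev _ (hW_lt s hs) p).trans
      (Nat.eq_of_beq_eq_true (List.all_eq_true.1 (Bool.and_eq_true_iff.1 (k_ok p.1 p.2)).2 s (List.mem_range.2 hs))).symm
  · rw [hT_out s hs, map_one, actK.perm_out s hs]

theorem gen : Subgroup.closure {x | ∃ s < 3, hT s = x} = ⊤ := by
  rw [← (Subgroup.map_injective (f := K.subtype) K.subtype_injective).eq_iff, ← MonoidHom.range_eq_map,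
    Subgroup.range_subtype, MonoidHom.map_closure]
  show _ = Subgroup.closure {y | ∃ s < 3, ev McLOut.g (hW.getD s []) = y}
  congr 1
  ext y
  simp only [Set.mem_image, Set.mem_ofPred_eq, Subgroup.coe_subtype]
  constructor
  · rintro ⟨x, ⟨s, hs, rfl⟩, rfl⟩; exact ⟨s, hs, (coe_hT hs).symm⟩
  · rintro ⟨s, hs, rfl⟩; exact ⟨_, ⟨s, hs, rfl⟩, coe_hT hs⟩

/-- The points of a set. -/
noncomputable def setPts (i : ℕ) : List ℕ := (List.range 40).map fun k => (ptsD.at i >>> (16 * k)) % 65536

theorem setInv : ∀ i < 126, actD.chkInv i = true :=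
  of_blocks (size := 63) (b := 2) (by decide) (by decide) fun j hj => by interval_cases j <;> decide +kernel

theorem setChk : ∀ i < 126, chkSubset actK actD setD setPts i = true :=
  of_blocks (size := 21) (b := 6) (by decide) (by decide) fun j hj => by interval_cases j <;> decide +kernel

theorem exists_homD : ∃ θ : K →* Equiv.Perm (Fin actD.N), actD.Hom hT θ :=
  exists_subset_hom homK rfl gen hT_out setInv setChk

theorem homOne : actOne.Hom hT (1 : K →* Equiv.Perm (Fin actOne.N)) := by
  refine ⟨by decide +kernel, fun s => Equiv.ext fun p => ?_⟩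
  have : Subsingleton (Fin actOne.N) := inferInstanceAs (Subsingleton (Fin 1))
  exact Subsingleton.elim _ _

/-- The tables modulo three. -/
def signD : SignTab := ⟨actD, 3, actOne, sgD, edD, 1, paD, 0⟩

theorem okD : signD.OkCyc where
  one_lt := by decide
  root_lt := by decide
  step := of_blocks (size := 42) (b := 3) (by decide) (by decide) fun j hj => by interval_cases j <;> decide +kernel
  apart := of_blocks (size := 63) (b := 2) (by decide) (by decide) fun j hj => by interval_cases j <;> decide +kernel
  pred := of_blocks (size := 63) (b := 2) (by decide) (by decide) fun j hj => by interval_cases j <;> decide +kernel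

end Cfsg.Agent.Spor.Cos.McLMult
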