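import Cfsg.Agent.Lib.Grp.SchurM.TailTable
import Cfsg.Agent.Lib.Spor.Cos.Sift
import Cfsg.Agent.Lib.Spor.Cos.McLOut.Rep

/-! A Sylow 11-subgroup of the group on 275 points with equations for the tails. -/

set_option autoImplicit false
set_option maxRecDepth 100000
set_option maxHeartbeats 8000000

open Cfsg.Agent.Spor.Cos Cfsg.Agent.Grp.SchurM.Tails

namespace Cfsg.Agent.Spor.Cos.McLMult

/-- Presentation of the Sylow 11-subgroup. -/
def pc11 : PC where
  p := 11
  n := 1
  rhs := [[]]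
  defs := []

/-- Elements of the Sylow 11-subgroup. -/
def els11 : List (List ℕ) :=
   [[0, 0, 0, 0],
    [0, 0, 0, 0, 0, 0, 0, 0, 0],
    [],
    [0, 0],
    [0, 0, 0, 0, 0, 0, 0, 0],
    [0, 0, 0, 0, 0],
    [0, 0, 0],
    [0, 0, 0, 0, 0, 0],
    [0, 0, 0, 0, 0, 0, 0, 0, 0, 0],
    [0, 0, 0, 0, 0, 0, 0],
    [0]]

/-- Conjugation data. -/
def conj11 : List Conj :=
   [(0, [0, 0, 0, 0, 0, 0, 0, 0, 0, 0], [0, 0, 0, 0, 0, 0])]

/-- Equations between tails. -/
def cert11 : Cert where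
  eqns := [.fus [0] [0, 0, 0, 0, 0, 0, 0, 0, 0, 0, 0] []]
  free := 1
  combo := [[0, 0, 0]]

/-- The certificate. -/
def tab11 : TableCert where
  P := pc11
  ews := [[1, 4, 3, 0, 4, 2, 4, 1, 4, 0, 4, 1, 0, 3, 0, 2, 4, 1, 4]]
  gws := [[4, 1, 0, 4, 1, 3, 4, 0, 4, 2, 4, 0, 2, 1, 4, 2]]
  C := conj11
  K := cert11
  els := els11

theorem tab11_rel : tab11.chkRel McLOut.actA McLOut.ptsA = true := by decide +kernel

theorem tab11_card : tab11.chkCard McLOut.actA McLOut.ptsA = true := by decide +kernel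

theorem tab11_tails : tab11.K.check tab11.P tab11.C = true := by decide +kernel

theorem sylow11 : Nonempty (SylowCert McLOut.H 11) :=
  TableCert.sylowCert McLOut.homA (by decide +kernel) McLOut.det McLOut.card_H rfl (by decide) tab11_rel tab11_card tab11_tails
    (le_of_eq rfl) (by decide +kernel)

end Cfsg.Agent.Spor.Cos.McLMult
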