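import Cfsg.Agent.Lib.Grp.SchurM.TailTable
import Cfsg.Agent.Lib.Spor.Cos.Sift
import Cfsg.Agent.Lib.Spor.Cos.McLOut.Rep

/-! A Sylow 2-subgroup of the group on 275 points with equations for the tails. -/

set_option autoImplicit false
set_option maxRecDepth 100000
set_option maxHeartbeats 8000000

open Cfsg.Agent.Spor.Cos Cfsg.Agent.Grp.SchurM.Tails

namespace Cfsg.Agent.Spor.Cos.McLMult

/-- Presentation of the Sylow 2-subgroup. -/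
def pc2 : PC where
  p := 2
  n := 7
  rhs := [[6],
    [0, 1, 3],
    [],
    [0, 2, 5],
    [1, 2, 4],
    [5, 6],
    [0, 3, 6],
    [1, 3, 6],
    [2, 3, 5],
    [6],
    [0, 4, 5],
    [1, 4],
    [2, 4, 6],
    [3, 4, 6],
    [],
    [0, 5],
    [1, 5, 6],
    [2, 5],
    [3, 5],
    [4, 5],
    [],
    [0, 6],
    [1, 6],
    [2, 6],
    [3, 6],
    [4, 6],
    [5, 6],
    []]
  defs := [(3, 1, 0), (4, 2, 1), (5, 3, 2), (6, 5, 1)]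

/-- Elements of the Sylow 2-subgroup. -/
def els2 : List (List ℕ) :=
   [[0, 1, 4, 6],
    [0, 1, 3, 5, 6],
    [0, 1, 4, 5],
    [0, 1, 3],
    [0, 1, 2, 3, 5, 6],
    [0, 1, 2, 3],
    [0, 1, 2, 4, 6],
    [0, 1, 2, 4, 5],
    [0, 2, 6],
    [0, 2, 3, 4, 6],
    [0, 2, 3, 4, 5],
    [0, 2, 5],
    [0, 3, 4, 5, 6],
    [0, 3, 4],
    [0, 5, 6],
    [0],
    [0, 6],
    [0, 5],
    [0, 3, 4, 6],
    [0, 3, 4, 5],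
    [0, 2, 3, 4, 5, 6],
    [0, 2, 5, 6],
    [0, 2],
    [0, 2, 3, 4],
    [3, 4],
    [],
    [5, 6],
    [3, 4, 5, 6],
    [2, 3, 4, 6],
    [2, 3, 4, 5],
    [2, 6],
    [2, 5],
    [0, 1],
    [0, 1, 3, 4],
    [0, 1, 5, 6],
    [0, 1, 3, 4, 5, 6],
    [0, 1, 2, 3, 4, 5],
    [0, 1, 2, 3, 4, 6],
    [0, 1, 2, 6],
    [0, 1, 2, 5],
    [1, 2],
    [1, 2, 3, 4, 5, 6],
    [1, 2, 5, 6],
    [1, 2, 3, 4],
    [1, 5],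
    [1, 6],
    [1, 3, 4, 6],
    [1, 3, 4, 5],
    [0, 2, 3, 5],
    [0, 2, 4, 5, 6],
    [0, 2, 4],
    [0, 2, 3, 6],
    [0, 4],
    [0, 3, 5],
    [0, 3, 6],
    [0, 4, 5, 6],
    [4, 6],
    [3],
    [3, 5, 6],
    [4, 5],
    [2, 4, 6],
    [2, 3, 5, 6],
    [2, 3],
    [2, 4, 5],
    [2, 5, 6],
    [2],
    [2, 3, 4, 5, 6],
    [2, 3, 4],
    [5],
    [3, 4, 5],
    [3, 4, 6],
    [6],
    [1, 2, 4, 5, 6],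
    [1, 2, 3, 5],
    [1, 2, 4],
    [1, 2, 3, 6],
    [1, 4],
    [1, 4, 5, 6],
    [1, 3, 5],
    [1, 3, 6],
    [0, 3, 5, 6],
    [0, 4, 6],
    [0, 4, 5],
    [0, 3],
    [0, 2, 4, 6],
    [0, 2, 3],
    [0, 2, 3, 5, 6],
    [0, 2, 4, 5],
    [0, 1, 2, 4],
    [0, 1, 2, 4, 5, 6],
    [0, 1, 2, 3, 5],
    [0, 1, 2, 3, 6],
    [0, 1, 3, 5],
    [0, 1, 4],
    [0, 1, 3, 6],
    [0, 1, 4, 5, 6],
    [0, 1, 2],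
    [0, 1, 2, 5, 6],
    [0, 1, 2, 3, 4, 5, 6],
    [0, 1, 2, 3, 4],
    [0, 1, 3, 4, 5],
    [0, 1, 5],
    [0, 1, 3, 4, 6],
    [0, 1, 6],
    [1, 3, 5, 6],
    [1, 3],
    [1, 4, 6],
    [1, 4, 5],
    [1, 2, 3],
    [1, 2, 4, 6],
    [1, 2, 3, 5, 6],
    [1, 2, 4, 5],
    [1, 3, 4],
    [1, 3, 4, 5, 6],
    [1, 5, 6],
    [1],
    [1, 2, 3, 4, 5],
    [1, 2, 6],
    [1, 2, 3, 4, 6],
    [1, 2, 5],
    [2, 3, 5],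
    [2, 4],
    [2, 4, 5, 6],
    [2, 3, 6],
    [3, 5],
    [4, 5, 6],
    [4],
    [3, 6]]

/-- Conjugation data. -/
def conj2 : List Conj :=
   [(0, [6], [6]),
    (0, [0, 2, 5], [2, 3, 4, 5]),
    (1, [0, 2], [4, 5]),
    (1, [3, 4, 5], [1, 3, 6]),
    (1, [6], [6]),
    (2, [2, 3], [4]),
    (2, [4, 5, 6], [4, 5]),
    (2, [5], [2, 3, 6]),
    (2, [4, 5], [4, 5, 6]),
    (3, [0, 3, 5], [2, 4, 5]),
    (3, [3], [0, 2, 3]),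
    (3, [0, 3, 4, 5, 6], [2, 6]),
    (3, [2, 3, 4], [2, 3, 4, 5, 6])]

/-- Equations between tails. -/
def cert2 : Cert where
  eqns := [.cons [2, 1, 0] 0 1,
    .cons [3, 1, 0] 0 1,
    .cons [3, 2, 0] 0 1,
    .cons [3, 2, 1] 0 1,
    .cons [4, 1, 0] 0 1,
    .cons [4, 2, 0] 0 1,
    .cons [4, 2, 1] 0 1,
    .cons [4, 3, 0] 0 1,
    .cons [4, 3, 2] 0 1,
    .cons [5, 1, 0] 0 1,
    .cons [5, 3, 0] 0 1,
    .cons [1, 1, 0] 0 1,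
    .cons [1, 0, 0] 0 1,
    .cons [2, 2, 0] 0 1,
    .cons [2, 2, 1] 0 1,
    .cons [2, 1, 1] 0 1,
    .cons [3, 3, 0] 0 1,
    .cons [3, 3, 2] 0 1,
    .fus [0, 1] [1, 1] [],
    .fus [2, 3, 4] [0, 0] [],
    .fus [2, 3, 4] [1, 0] [0, 1],
    .fus [2, 3, 4] [1, 1] [],
    .fus [5, 6, 7, 8] [1, 0] [0, 1],
    .fus [9, 10, 11, 12] [1, 1] [0, 0]]
  free := 28
  combo := [[1, 2, 4, 6, 13, 18, 23],
    [],
    [0, 1, 2, 3, 4, 5, 6, 7, 8, 11, 12, 15, 16, 17, 20, 21, 22],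
    [0, 2, 3, 4, 5, 6, 7, 9, 12, 13, 15, 20, 23],
    [],
    [0, 2, 3, 4, 8, 10, 12, 13, 14, 15, 16, 17, 18, 19, 20, 22],
    [0, 5, 6, 9, 10, 13, 14, 15, 16, 17, 20],
    [0, 5, 7, 10, 11, 12, 13, 14, 15, 16, 17, 20],
    [],
    [0, 3, 4, 5, 8, 12, 13, 14, 15, 17, 20],
    [0, 2, 3, 5, 7, 9, 10, 13],
    [2, 3, 6, 7, 13, 14, 15, 17, 22],
    [2, 3, 7, 13, 17, 22],
    [1, 3, 6, 8, 16],
    [2, 3, 6, 7, 13, 14, 17, 22],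
    [3, 4, 5, 7, 9, 10, 13, 17],
    [],
    [2, 3, 4, 7, 8, 10, 13, 17],
    [1, 6, 7],
    [2, 5, 13, 17],
    [2, 3, 4, 5, 7, 9, 10, 13],
    [3, 4, 7, 8, 10],
    [1, 3, 4, 7, 8, 10],
    [1, 2, 3, 4, 5, 6, 9, 10, 13, 17],
    [1, 3, 4, 6, 8, 9, 10],
    [1, 3, 4, 6, 7, 8, 10],
    [10],
    [1, 6, 7, 9, 16]]

/-- The certificate. -/
def tab2 : TableCert where
  P := pc2
  ews := [[3, 1, 3, 0, 4, 3, 1, 4, 0, 2, 0, 4, 0, 4, 1, 4, 2, 0, 4, 3, 1],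
    [1, 4, 0, 4, 0, 4, 1, 2, 0, 4, 0, 4, 3, 0, 4, 2, 1, 0],
    [1, 4, 0, 4, 0, 3, 2, 0, 3, 1, 0, 4, 2, 0, 2, 4, 0, 3, 1],
    [0, 2, 1, 4, 0, 4, 0, 3, 2, 0, 2, 4, 3, 0, 4, 0, 4],
    [4, 0, 3, 0, 3, 4, 0, 2, 0, 4, 3, 0, 3, 0, 4],
    [2, 1, 4, 0, 2, 0, 4, 1, 4, 3, 1, 4, 0, 2, 0, 4, 2, 1],
    [4, 1, 4, 2, 4, 0, 4, 0, 4, 2, 4, 1, 4]]
  gws := [[2, 0, 2, 1, 4, 0, 4, 2, 0, 3, 4, 1, 4, 2, 0, 2, 1, 4, 3, 1, 2, 0, 3],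
    [4, 1, 4, 0, 2, 1, 0, 4, 1, 3, 1, 4, 2, 0, 4, 3, 1, 3, 0, 2, 0],
    [2, 1, 4, 0, 4, 0, 2, 0, 4, 2, 0, 4, 2, 0, 4, 1, 4, 0, 4, 1, 4],
    [3, 0, 4, 0, 2, 1, 3, 0, 4, 1, 0, 4, 2, 4, 0, 3]]
  C := conj2
  K := cert2
  els := els2

theorem tab2_rel : tab2.chkRel McLOut.actA McLOut.ptsA = true := by decide +kernel

theorem tab2_card : tab2.chkCard McLOut.actA McLOut.ptsA = true := by decide +kernel

theorem tab2_tails : tab2.K.check tab2.P tab2.C = true := by decide +kernel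

theorem sylow2 : Nonempty (SylowCert McLOut.H 2) :=
  TableCert.sylowCert McLOut.homA (by decide +kernel) McLOut.det McLOut.card_H rfl (by decide) tab2_rel tab2_card tab2_tails
    (le_of_eq rfl) (by decide +kernel)

end Cfsg.Agent.Spor.Cos.McLMult
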