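import Cfsg.Agent.Lib.Grp.SchurM.TailExp
import Cfsg.Agent.Lib.Spor.Cos.Sift
import Cfsg.Agent.Lib.Spor.Cos.McLOut.Rep

/-! A Sylow 3-subgroup of the group on 275 points with equations for the tails. -/

set_option autoImplicit false
set_option maxRecDepth 100000
set_option maxHeartbeats 8000000

open Cfsg.Agent.Spor.Cos Cfsg.Agent.Grp.SchurM.Tails

namespace Cfsg.Agent.Spor.Cos.McLMult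

/-- Presentation of the Sylow 3-subgroup. -/
def pc3 : PC where
  p := 3
  n := 6
  rhs := [[],
    [0, 1, 3],
    [],
    [0, 2, 4],
    [1, 2, 5, 5],
    [],
    [0, 3],
    [1, 3, 5],
    [2, 3],
    [],
    [0, 4],
    [1, 4],
    [2, 4, 5],
    [3, 4],
    [],
    [0, 5],
    [1, 5],
    [2, 5],
    [3, 5],
    [4, 5],
    []]
  defs := [(3, 1, 0), (4, 2, 0), (5, 3, 1)]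

/-- Elements of the Sylow 3-subgroup. -/
def els3 : List (List ℕ) :=
   [[0, 1, 1, 2, 3, 3],
    [0, 2, 2, 4, 5, 5],
    [0, 1, 1, 3, 3, 4],
    [0, 1, 2, 2, 3],
    [0, 1, 2, 3, 4],
    [0, 2, 4, 4, 5],
    [0, 1, 3, 4, 4, 5, 5],
    [0, 5, 5],
    [0, 1, 1, 2, 2, 3, 3, 4, 4, 5, 5],
    [1, 3, 3, 4, 5],
    [1, 2, 3, 3, 5],
    [2, 3, 4, 5],
    [3, 4, 4],
    [1, 1],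
    [2, 2, 3, 5],
    [1, 1, 2, 4, 4, 5, 5],
    [1, 1, 2, 2, 4],
    [1, 2, 2, 3, 3, 4, 4],
    [1, 1, 4, 5, 5],
    [1, 1, 2, 2, 4, 4, 5],
    [1, 3, 3, 4, 4],
    [1, 2, 2, 3, 3, 5],
    [3, 5, 5],
    [2, 3, 4, 4, 5],
    [1, 1, 2, 5, 5],
    [2, 2, 3, 4, 5, 5],
    [1, 2, 3, 3, 4, 5],
    [1, 2, 4, 5],
    [2, 2, 3, 3, 4, 5],
    [1, 4, 4],
    [1, 1, 2, 2, 3, 4, 4, 5, 5],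
    [2, 3, 3, 4, 4],
    [1, 2, 2, 5],
    [3, 3, 5],
    [1, 1, 2, 3],
    [1, 1, 3, 4],
    [1, 1, 2, 5],
    [1, 1, 2, 2, 4, 4],
    [1, 2, 3, 3, 4],
    [2, 2, 3, 4, 5],
    [3, 5],
    [1, 3, 3, 4, 4, 5, 5],
    [1, 2, 2, 3, 3],
    [2, 3, 4, 4],
    [1, 1, 4, 5],
    [2, 3, 3, 4, 5],
    [2, 2, 3, 3, 5],
    [1, 4, 5, 5],
    [1, 1, 3, 5, 5],
    [1, 1, 2, 3, 4, 4, 5],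
    [1, 2, 2, 4, 4, 5],
    [1, 1, 2, 2, 3, 4, 5, 5],
    [1, 2, 5, 5],
    [3, 3, 4, 4],
    [3, 4, 5],
    [2, 2, 3, 4, 4],
    [1, 2, 2, 3, 3, 4, 5, 5],
    [1, 1, 4, 4, 5],
    [1, 2, 3, 3, 4, 4, 5],
    [1, 3, 3, 5, 5],
    [1, 1, 2, 2, 5, 5],
    [1, 1, 2, 4, 5, 5],
    [2, 3, 5],
    [0, 0, 1, 3, 3, 5, 5],
    [0, 0, 1, 2, 3, 3, 4, 4, 5],
    [0, 0, 1, 2, 2, 3, 3, 4, 5, 5],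
    [0, 0, 2, 2, 3, 4, 4],
    [0, 0, 1, 1, 2, 2, 5, 5],
    [0, 0, 2, 3, 5],
    [0, 0, 3, 4, 5],
    [0, 0, 1, 1, 4, 4, 5],
    [0, 0, 1, 1, 2, 4, 5, 5],
    [1, 3, 5, 5],
    [1, 1, 2, 3, 3, 4, 5],
    [1, 2, 3, 4, 4, 5],
    [1, 1, 3, 3, 4, 4],
    [1, 1, 2, 2, 3, 3, 5],
    [2, 2, 4, 4, 5],
    [2, 5, 5],
    [4, 5, 5],
    [1, 2, 2, 3, 4, 5, 5],
    [2, 2, 4, 5],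
    [1, 2, 3, 4, 5, 5],
    [2, 4, 4],
    [1, 2, 2, 3, 5, 5],
    [1, 1, 2, 3, 3, 5, 5],
    [5],
    [1, 3, 4, 4, 5],
    [1, 1, 3, 3, 4, 5, 5],
    [1, 1, 2, 2, 3, 3, 4, 4, 5],
    [0, 0, 2, 3, 3, 5],
    [0, 0, 2, 2, 3, 3, 4, 4],
    [0, 0, 1, 1, 2, 3, 4, 5],
    [0, 0, 3, 3, 4, 5],
    [0, 0, 1, 2, 4, 4, 5, 5],
    [0, 0, 1],
    [0, 0, 1, 2, 2, 4],
    [0, 0, 1, 1, 2, 2, 3, 5],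
    [0, 0, 1, 1, 3, 4, 4],
    [0, 1, 1, 2, 2, 5, 5],
    [0, 1, 2, 3, 3, 4, 4, 5],
    [0, 1, 1, 4, 4, 5],
    [0, 1, 3, 3, 5, 5],
    [0, 3, 4, 5],
    [0, 2, 3, 5],
    [0, 1, 2, 2, 3, 3, 4, 5, 5],
    [0, 2, 2, 3, 4, 4],
    [0, 1, 1, 2, 4, 5, 5],
    [0, 1, 2, 2, 4, 4, 5, 5],
    [0, 2, 3, 3, 4, 5, 5],
    [0, 1, 1, 2, 3, 4, 4, 5, 5],
    [0, 1, 1, 2, 2, 3, 4],
    [0, 2, 2, 3, 3, 5, 5],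
    [0, 1, 4],
    [0, 1, 2],
    [0, 3, 3, 4, 4, 5],
    [0, 1, 1, 3],
    [3, 3, 4, 4, 5],
    [1, 1, 2, 2, 3, 4],
    [1, 1, 2, 3, 4, 4, 5, 5],
    [1, 2, 2, 4, 4, 5, 5],
    [1, 2],
    [1, 1, 3],
    [2, 2, 3, 3, 5, 5],
    [1, 4],
    [2, 3, 3, 4, 5, 5],
    [1, 2, 2, 3, 4, 5],
    [1, 2, 3, 4, 4],
    [4, 5],
    [2, 5],
    [1, 1, 2, 2, 3, 3],
    [1, 1, 3, 3, 4, 4, 5, 5],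
    [1, 1, 2, 3, 3, 4],
    [2, 2, 4, 4],
    [1, 3, 5],
    [2, 3, 5, 5],
    [1, 1, 2, 4],
    [2, 2, 3, 4, 4, 5],
    [1, 1, 2, 2],
    [1, 2, 2, 3, 3, 4],
    [1, 2, 3, 3, 4, 4, 5, 5],
    [1, 3, 3],
    [3, 4, 5, 5],
    [1, 1, 4, 4, 5, 5],
    [0, 3, 3, 5],
    [0, 1, 1, 2, 2, 3, 4, 4, 5, 5],
    [0, 2, 2, 3, 3, 4, 5],
    [0, 1, 2, 2, 5],
    [0, 1, 2, 4, 5],
    [0, 1, 4, 4],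
    [0, 2, 3, 3, 4, 4],
    [0, 1, 1, 3, 4],
    [0, 1, 1, 2, 3],
    [0, 0, 1, 3, 4, 4],
    [0, 0, 2, 2, 4],
    [0, 0, 2, 4, 4, 5, 5],
    [0, 0, 1, 1, 3, 3, 4, 5],
    [0, 0],
    [0, 0, 1, 1, 2, 3, 3, 5],
    [0, 0, 1, 1, 2, 2, 3, 3, 4, 4],
    [0, 0, 1, 2, 3, 4, 5],
    [0, 0, 1, 2, 2, 3, 5],
    [1, 1, 2, 2, 3, 3, 4, 5, 5],
    [1, 1, 3, 3, 5, 5],
    [4, 4, 5],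
    [2, 2, 5, 5],
    [2, 4, 5, 5],
    [1, 2, 3, 5],
    [1, 3, 4, 5],
    [1, 2, 2, 3, 4, 4],
    [1, 1, 2, 3, 3, 4, 4, 5],
    [1, 1, 2, 2, 3],
    [1, 1, 3, 4, 4, 5, 5],
    [1, 2, 4, 4, 5],
    [2, 3, 3],
    [2, 2, 3, 3, 4, 4, 5, 5],
    [1, 5, 5],
    [1, 2, 2, 4, 5, 5],
    [1, 1, 2, 3, 4],
    [3, 3, 4],
    [0, 0, 1, 2, 5],
    [0, 0, 2, 3, 3, 4],
    [0, 0, 1, 1, 3, 5],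
    [0, 0, 1, 1, 2, 3, 4, 4],
    [0, 0, 1, 1, 2, 2, 3, 4, 5],
    [0, 0, 2, 2, 3, 3],
    [0, 0, 3, 3, 4, 4, 5, 5],
    [0, 0, 1, 4, 5],
    [0, 0, 1, 2, 2, 4, 4],
    [0, 1, 2, 3, 5],
    [0, 4, 4, 5],
    [0, 2, 4, 5, 5],
    [0, 1, 1, 2, 2, 3, 3, 4, 5, 5],
    [0, 1, 1, 2, 3, 3, 4, 4, 5],
    [0, 2, 2, 5, 5],
    [0, 1, 3, 4, 5],
    [0, 1, 1, 3, 3, 5, 5],
    [0, 1, 2, 2, 3, 4, 4],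
    [],
    [2, 4, 4, 5, 5],
    [1, 1, 2, 2, 3, 3, 4, 4],
    [1, 1, 2, 3, 3, 5],
    [1, 3, 4, 4],
    [1, 2, 2, 3, 5],
    [1, 1, 3, 3, 4, 5],
    [1, 2, 3, 4, 5],
    [2, 2, 4],
    [0, 0, 1, 1, 2, 2, 4, 5],
    [0, 0, 1, 2, 2, 3, 3, 4, 4, 5],
    [0, 0, 2, 2, 3, 5, 5],
    [0, 0, 3, 4, 4, 5],
    [0, 0, 2, 3, 4, 5, 5],
    [0, 0, 1, 1, 2, 4, 4],
    [0, 0, 1, 2, 3, 3, 5, 5],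
    [0, 0, 1, 1, 5],
    [0, 0, 1, 3, 3, 4, 5, 5],
    [0, 2, 2, 3, 5, 5],
    [0, 1, 3, 3, 4, 5, 5],
    [0, 1, 2, 3, 3, 5, 5],
    [0, 1, 1, 2, 4, 4],
    [0, 1, 1, 2, 2, 4, 5],
    [0, 1, 2, 2, 3, 3, 4, 4, 5],
    [0, 2, 3, 4, 5, 5],
    [0, 1, 1, 5],
    [0, 3, 4, 4, 5],
    [0, 1, 5, 5],
    [0, 1, 1, 2, 3, 4],
    [0, 1, 2, 4, 4, 5],
    [0, 2, 2, 3, 3, 4, 4, 5, 5],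
    [0, 2, 3, 3],
    [0, 1, 1, 3, 4, 4, 5, 5],
    [0, 3, 3, 4],
    [0, 1, 2, 2, 4, 5, 5],
    [0, 1, 1, 2, 2, 3],
    [1, 1, 2, 3, 4, 5, 5],
    [1, 1, 3, 4, 4, 5],
    [1, 2, 4, 4],
    [1, 5],
    [3, 3, 4, 5, 5],
    [2, 2, 3, 3, 4, 4, 5],
    [2, 3, 3, 5, 5],
    [1, 2, 2, 4, 5],
    [1, 1, 2, 2, 3, 5, 5],
    [1, 2, 2],
    [1, 4, 4, 5, 5],
    [1, 1, 2, 3, 5, 5],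
    [1, 1, 2, 2, 3, 4, 4, 5],
    [3, 3],
    [1, 1, 3, 4, 5, 5],
    [2, 2, 3, 3, 4],
    [2, 3, 3, 4, 4, 5, 5],
    [1, 2, 4],
    [0, 0, 1, 1, 4, 5],
    [0, 0, 2, 2, 3, 4, 5],
    [0, 0, 1, 1, 2, 2, 4, 4],
    [0, 0, 1, 2, 2, 3, 3],
    [0, 0, 1, 1, 2, 5],
    [0, 0, 1, 2, 3, 3, 4],
    [0, 0, 1, 3, 3, 4, 4, 5, 5],
    [0, 0, 3, 5],
    [0, 0, 2, 3, 4, 4],
    [1, 1, 2, 3, 3, 4, 4, 5, 5],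
    [1, 2, 3, 5, 5],
    [2, 2],
    [1, 2, 2, 3, 4, 4, 5],
    [1, 1, 3, 3],
    [4, 4, 5, 5],
    [1, 3, 4, 5, 5],
    [1, 1, 2, 2, 3, 3, 4],
    [2, 4],
    [0, 0, 1, 1, 2, 3, 5, 5],
    [0, 0, 1, 2, 4],
    [0, 0, 1, 4, 4, 5, 5],
    [0, 0, 2, 3, 3, 4, 4, 5, 5],
    [0, 0, 1, 2, 2],
    [0, 0, 1, 1, 2, 2, 3, 4, 4, 5],
    [0, 0, 2, 2, 3, 3, 4],
    [0, 0, 1, 1, 3, 4, 5, 5],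
    [0, 0, 3, 3],
    [1, 2, 2, 3, 3, 4, 4, 5],
    [1, 1, 2, 2, 4, 5],
    [1, 1, 2, 4, 4],
    [1, 2, 3, 3, 5, 5],
    [2, 2, 3, 5, 5],
    [1, 1, 5],
    [2, 3, 4, 5, 5],
    [1, 3, 3, 4, 5, 5],
    [3, 4, 4, 5],
    [0, 0, 4, 4, 5],
    [0, 0, 1, 2, 3, 5],
    [0, 0, 1, 2, 2, 3, 4, 4],
    [0, 0, 1, 3, 4, 5],
    [0, 0, 1, 1, 3, 3, 5, 5],
    [0, 0, 1, 1, 2, 2, 3, 3, 4, 5, 5],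
    [0, 0, 2, 2, 5, 5],
    [0, 0, 2, 4, 5, 5],
    [0, 0, 1, 1, 2, 3, 3, 4, 4, 5],
    [0, 0, 1, 1, 2, 2, 3, 3, 5],
    [0, 0, 1, 1, 3, 3, 4, 4],
    [0, 0, 1, 1, 2, 3, 3, 4, 5],
    [0, 0, 4, 5, 5],
    [0, 0, 1, 3, 5, 5],
    [0, 0, 1, 2, 3, 4, 4, 5],
    [0, 0, 2, 2, 4, 4, 5],
    [0, 0, 1, 2, 2, 3, 4, 5, 5],
    [0, 0, 2, 5, 5],
    [0, 1, 1, 3, 3, 4, 4],
    [0, 1, 2, 2, 3, 4, 5, 5],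
    [0, 1, 1, 2, 2, 3, 3, 5],
    [0, 1, 1, 2, 3, 3, 4, 5],
    [0, 4, 5, 5],
    [0, 1, 2, 3, 4, 4, 5],
    [0, 2, 2, 4, 4, 5],
    [0, 1, 3, 5, 5],
    [0, 2, 5, 5],
    [0, 2, 3, 4, 4, 5, 5],
    [0, 1, 1, 4],
    [0, 1, 1, 2, 2, 4, 4, 5, 5],
    [0, 1, 1, 2],
    [0, 2, 2, 3, 4],
    [0, 3],
    [0, 1, 2, 3, 3, 4, 5, 5],
    [0, 1, 3, 3, 4, 4, 5],
    [0, 1, 2, 2, 3, 3, 5, 5],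
    [1, 3, 4],
    [2, 4, 5],
    [1, 1, 2, 3, 3, 4, 4],
    [1, 2, 2, 3, 4, 4, 5, 5],
    [4, 4],
    [1, 2, 3],
    [2, 2, 5],
    [1, 1, 2, 2, 3, 3, 4, 5],
    [1, 1, 3, 3, 5],
    [1, 2, 2, 4],
    [3, 3, 4, 5],
    [1],
    [2, 2, 3, 3, 4, 4],
    [2, 3, 3, 5],
    [1, 1, 2, 2, 3, 5],
    [1, 2, 4, 4, 5, 5],
    [1, 1, 3, 4, 4],
    [1, 1, 2, 3, 4, 5],
    [0, 0, 1, 2, 3, 4, 4],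
    [0, 0, 2, 2, 4, 4],
    [0, 0, 2, 5],
    [0, 0, 1, 3, 5],
    [0, 0, 4, 5],
    [0, 0, 1, 1, 3, 3, 4, 4, 5, 5],
    [0, 0, 1, 2, 2, 3, 4, 5],
    [0, 0, 1, 1, 2, 3, 3, 4],
    [0, 0, 1, 1, 2, 2, 3, 3],
    [0, 1, 3, 3, 4, 4],
    [0, 1, 1, 2, 5, 5],
    [0, 3, 5, 5],
    [0, 2, 2, 3, 4, 5, 5],
    [0, 1, 1, 4, 5, 5],
    [0, 2, 3, 4, 4, 5],
    [0, 1, 2, 3, 3, 4, 5],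
    [0, 1, 1, 2, 2, 4, 4, 5],
    [0, 1, 2, 2, 3, 3, 5],
    [1, 2, 2, 3, 3, 4, 4, 5, 5],
    [2, 2, 3],
    [1, 1, 2, 4, 4, 5],
    [1, 1, 5, 5],
    [3, 4, 4, 5, 5],
    [1, 1, 2, 2, 4, 5, 5],
    [2, 3, 4],
    [1, 3, 3, 4],
    [1, 2, 3, 3],
    [0, 2, 2, 3, 3, 4, 4],
    [0, 1, 2, 2, 4],
    [0, 1, 1, 2, 2, 3, 5],
    [0, 2, 3, 3, 5],
    [0, 1, 1, 3, 4, 4],
    [0, 3, 3, 4, 5],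
    [0, 1, 2, 4, 4, 5, 5],
    [0, 1],
    [0, 1, 1, 2, 3, 4, 5],
    [0, 0, 1, 1, 2, 2, 3, 3, 4, 5],
    [0, 0, 2, 4, 5],
    [0, 0, 1, 1, 3, 3, 5],
    [0, 0, 1, 3, 4],
    [0, 0, 4, 4],
    [0, 0, 1, 2, 2, 3, 4, 4, 5, 5],
    [0, 0, 1, 1, 2, 3, 3, 4, 4],
    [0, 0, 2, 2, 5],
    [0, 0, 1, 2, 3],
    [0, 2],
    [0, 2, 2, 4, 4, 5, 5],
    [0, 1, 3],
    [0, 1, 1, 2, 3, 3, 4, 5, 5],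
    [0, 1, 2, 3, 4, 4, 5, 5],
    [0, 1, 1, 2, 2, 3, 3, 5, 5],
    [0, 4],
    [0, 1, 2, 2, 3, 4],
    [0, 1, 1, 3, 3, 4, 4, 5],
    [0, 0, 3, 5, 5],
    [0, 0, 1, 2, 3, 3, 4, 5],
    [0, 0, 1, 2, 2, 3, 3, 5],
    [0, 0, 2, 3, 4, 4, 5],
    [0, 0, 1, 1, 4, 5, 5],
    [0, 0, 1, 3, 3, 4, 4],
    [0, 0, 1, 1, 2, 2, 4, 4, 5],
    [0, 0, 1, 1, 2, 5, 5],
    [0, 0, 2, 2, 3, 4, 5, 5],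
    [1, 1, 3, 4, 5],
    [2, 3, 3, 4, 4, 5],
    [3, 3, 5, 5],
    [1, 1, 2, 3, 5],
    [1, 1, 2, 2, 3, 4, 4],
    [2, 2, 3, 3, 4, 5, 5],
    [1, 2, 4, 5, 5],
    [1, 4, 4, 5],
    [1, 2, 2, 5, 5],
    [0, 3, 4, 4],
    [0, 2, 3, 4, 5],
    [0, 1, 1],
    [0, 1, 3, 3, 4, 5],
    [0, 1, 2, 2, 3, 3, 4, 4],
    [0, 1, 1, 2, 2, 4],
    [0, 1, 2, 3, 3, 5],
    [0, 2, 2, 3, 5],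
    [0, 1, 1, 2, 4, 4, 5, 5],
    [0, 0, 1, 1, 2, 2, 3, 4, 4, 5, 5],
    [0, 0, 3, 3, 5],
    [0, 0, 2, 2, 3, 3, 4, 5],
    [0, 0, 1, 2, 4, 5],
    [0, 0, 1, 4, 4],
    [0, 0, 1, 1, 3, 4],
    [0, 0, 1, 2, 2, 5],
    [0, 0, 1, 1, 2, 3],
    [0, 0, 2, 3, 3, 4, 4],
    [1, 1, 3, 3, 4],
    [1, 2, 2, 3],
    [1, 1, 2, 2, 3, 3, 4, 4, 5, 5],
    [1, 3, 4, 4, 5, 5],
    [1, 2, 3, 4],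
    [1, 1, 2, 3, 3],
    [2, 2, 4, 5, 5],
    [2, 4, 4, 5],
    [5, 5],
    [0, 0, 1, 1, 2, 4, 4, 5],
    [0, 0, 1, 3, 3, 4],
    [0, 0, 2, 2, 3],
    [0, 0, 1, 2, 3, 3],
    [0, 0, 1, 2, 2, 3, 3, 4, 4, 5, 5],
    [0, 0, 2, 3, 4],
    [0, 0, 3, 4, 4, 5, 5],
    [0, 0, 1, 1, 5, 5],
    [0, 0, 1, 1, 2, 2, 4, 5, 5],
    [0, 1, 2, 2, 3, 4, 4, 5, 5],
    [0, 1, 3, 4],
    [0, 4, 4],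
    [0, 1, 1, 3, 3, 5],
    [0, 2, 4, 5],
    [0, 1, 1, 2, 3, 3, 4, 4],
    [0, 2, 2, 5],
    [0, 1, 2, 3],
    [0, 1, 1, 2, 2, 3, 3, 4, 5],
    [0, 4, 5],
    [0, 1, 2, 2, 3, 4, 5],
    [0, 1, 1, 3, 3, 4, 4, 5, 5],
    [0, 1, 3, 5],
    [0, 1, 1, 2, 2, 3, 3],
    [0, 1, 2, 3, 4, 4],
    [0, 1, 1, 2, 3, 3, 4],
    [0, 2, 2, 4, 4],
    [0, 2, 5],
    [0, 1, 2, 4, 5, 5],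
    [0, 2, 3, 3, 4, 4, 5],
    [0, 1, 4, 4, 5],
    [0, 1, 2, 2, 5, 5],
    [0, 1, 1, 3, 4, 5],
    [0, 1, 1, 2, 3, 5],
    [0, 2, 2, 3, 3, 4, 5, 5],
    [0, 3, 3, 5, 5],
    [0, 1, 1, 2, 2, 3, 4, 4],
    [0, 0, 1, 2, 2, 3],
    [0, 0, 1, 1, 2, 3, 3],
    [0, 0, 5, 5],
    [0, 0, 1, 1, 3, 3, 4],
    [0, 0, 1, 3, 4, 4, 5, 5],
    [0, 0, 1, 1, 2, 2, 3, 3, 4, 4, 5, 5],
    [0, 0, 1, 2, 3, 4],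
    [0, 0, 2, 4, 4, 5],
    [0, 0, 2, 2, 4, 5, 5],
    [0, 0, 1, 4, 5, 5],
    [0, 0, 2, 2, 3, 3, 5],
    [0, 0, 1, 1, 3, 5, 5],
    [0, 0, 1, 2, 2, 4, 4, 5],
    [0, 0, 2, 3, 3, 4, 5],
    [0, 0, 1, 2, 5, 5],
    [0, 0, 1, 1, 2, 2, 3, 4, 5, 5],
    [0, 0, 1, 1, 2, 3, 4, 4, 5],
    [0, 0, 3, 3, 4, 4],
    [0, 1, 2, 2, 3, 3],
    [0, 1, 2, 3, 3, 4],
    [0, 2, 2, 3, 4, 5],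
    [0, 3, 5],
    [0, 1, 1, 2, 2, 4, 4],
    [0, 1, 3, 3, 4, 4, 5, 5],
    [0, 1, 1, 2, 5],
    [0, 1, 1, 4, 5],
    [0, 2, 3, 4, 4],
    [1, 3, 3, 5],
    [1, 1, 4, 4],
    [1, 2, 3, 3, 4, 4],
    [1, 1, 2, 2, 5],
    [2, 3],
    [1, 1, 2, 4, 5],
    [1, 2, 2, 3, 3, 4, 5],
    [2, 2, 3, 4, 4, 5, 5],
    [3, 4],
    [2, 2, 4, 4, 5, 5],
    [1, 3],
    [1, 1, 2, 3, 3, 4, 5, 5],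
    [2],
    [1, 1, 3, 3, 4, 4, 5],
    [4],
    [1, 1, 2, 2, 3, 3, 5, 5],
    [1, 2, 3, 4, 4, 5, 5],
    [1, 2, 2, 3, 4],
    [0, 2, 3],
    [0, 2, 2, 3, 4, 4, 5, 5],
    [0, 1, 2, 3, 3, 4, 4],
    [0, 1, 3, 3, 5],
    [0, 1, 1, 2, 4, 5],
    [0, 1, 1, 4, 4],
    [0, 1, 2, 2, 3, 3, 4, 5],
    [0, 1, 1, 2, 2, 5],
    [0, 3, 4],
    [0, 1, 1, 3, 5],
    [0, 1, 2, 5],
    [0, 2, 2, 3, 3],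
    [0, 1, 1, 2, 2, 3, 4, 5],
    [0, 3, 3, 4, 4, 5, 5],
    [0, 1, 4, 5],
    [0, 1, 1, 2, 3, 4, 4],
    [0, 2, 3, 3, 4],
    [0, 1, 2, 2, 4, 4],
    [0, 1, 1, 2, 2, 3, 3, 4],
    [0, 1, 1, 3, 3],
    [0, 2, 2],
    [0, 1, 1, 2, 3, 3, 4, 4, 5, 5],
    [0, 1, 2, 2, 3, 4, 4, 5],
    [0, 2, 4],
    [0, 1, 3, 4, 5, 5],
    [0, 1, 2, 3, 5, 5],
    [0, 4, 4, 5, 5],
    [3, 3, 4, 4, 5, 5],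
    [1, 2, 5],
    [1, 1, 3, 5],
    [1, 2, 2, 4, 4],
    [1, 1, 2, 2, 3, 4, 5],
    [1, 4, 5],
    [1, 1, 2, 3, 4, 4],
    [2, 3, 3, 4],
    [2, 2, 3, 3],
    [0, 0, 1, 1, 3, 4, 5],
    [0, 0, 2, 2, 3, 3, 4, 5, 5],
    [0, 0, 3, 3, 5, 5],
    [0, 0, 1, 2, 2, 5, 5],
    [0, 0, 2, 3, 3, 4, 4, 5],
    [0, 0, 1, 1, 2, 3, 5],
    [0, 0, 1, 4, 4, 5],
    [0, 0, 1, 2, 4, 5, 5],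
    [0, 0, 1, 1, 2, 2, 3, 4, 4],
    [0, 0, 2, 2],
    [0, 0, 1, 1, 2, 3, 3, 4, 4, 5, 5],
    [0, 0, 1, 2, 3, 5, 5],
    [0, 0, 2, 4],
    [0, 0, 1, 1, 3, 3],
    [0, 0, 1, 3, 4, 5, 5],
    [0, 0, 1, 2, 2, 3, 4, 4, 5],
    [0, 0, 1, 1, 2, 2, 3, 3, 4],
    [0, 0, 4, 4, 5, 5],
    [0, 0, 1, 5, 5],
    [0, 0, 1, 1, 2, 2, 3],
    [0, 0, 2, 2, 3, 3, 4, 4, 5, 5],
    [0, 0, 1, 2, 4, 4, 5],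
    [0, 0, 1, 1, 3, 4, 4, 5, 5],
    [0, 0, 3, 3, 4],
    [0, 0, 1, 2, 2, 4, 5, 5],
    [0, 0, 2, 3, 3],
    [0, 0, 1, 1, 2, 3, 4],
    [0, 1, 1, 2, 4, 4, 5],
    [0, 1, 1, 2, 2, 4, 5, 5],
    [0, 1, 2, 3, 3],
    [0, 1, 1, 5, 5],
    [0, 1, 2, 2, 3, 3, 4, 4, 5, 5],
    [0, 3, 4, 4, 5, 5],
    [0, 2, 3, 4],
    [0, 2, 2, 3],
    [0, 1, 3, 3, 4],
    [0, 1, 3, 4, 4],
    [0, 1, 1, 2, 2, 3, 3, 4, 4],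
    [0, 2, 4, 4, 5, 5],
    [0, 1, 1, 3, 3, 4, 5],
    [0, 1, 2, 3, 4, 5],
    [0, 1, 2, 2, 3, 5],
    [0],
    [0, 1, 1, 2, 3, 3, 5],
    [0, 2, 2, 4],
    [0, 2, 3, 3, 4, 5],
    [0, 3, 3, 4, 4],
    [0, 1, 2, 2, 4, 4, 5],
    [0, 1, 4, 5, 5],
    [0, 1, 1, 2, 3, 4, 4, 5],
    [0, 1, 2, 5, 5],
    [0, 1, 1, 2, 2, 3, 4, 5, 5],
    [0, 2, 2, 3, 3, 5],
    [0, 1, 1, 3, 5, 5],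
    [0, 1, 1, 2, 3, 5, 5],
    [0, 1, 1, 3, 4, 5, 5],
    [0, 1, 1, 2, 2, 3, 4, 4, 5],
    [0, 1, 4, 4, 5, 5],
    [0, 2, 2, 3, 3, 4],
    [0, 1, 2, 2],
    [0, 2, 3, 3, 4, 4, 5, 5],
    [0, 3, 3],
    [0, 1, 2, 4],
    [0, 0, 1, 2, 2, 4, 4, 5, 5],
    [0, 0, 3, 3, 4, 4, 5],
    [0, 0, 1, 1, 2, 2, 3, 4],
    [0, 0, 1, 1, 2, 3, 4, 4, 5, 5],
    [0, 0, 2, 2, 3, 3, 5, 5],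
    [0, 0, 1, 2],
    [0, 0, 1, 4],
    [0, 0, 2, 3, 3, 4, 5, 5],
    [0, 0, 1, 1, 3],
    [0, 0, 1, 1],
    [0, 0, 1, 2, 3, 3, 5],
    [0, 0, 2, 3, 4, 5],
    [0, 0, 1, 3, 3, 4, 5],
    [0, 0, 3, 4, 4],
    [0, 0, 1, 1, 2, 2, 4],
    [0, 0, 1, 2, 2, 3, 3, 4, 4],
    [0, 0, 1, 1, 2, 4, 4, 5, 5],
    [0, 0, 2, 2, 3, 5],
    [0, 3, 4, 5, 5],
    [0, 1, 1, 2, 4],
    [0, 1, 2, 2, 3, 3, 4],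
    [0, 2, 2, 3, 4, 4, 5],
    [0, 1, 3, 3],
    [0, 2, 3, 5, 5],
    [0, 1, 1, 4, 4, 5, 5],
    [0, 1, 1, 2, 2],
    [0, 1, 2, 3, 3, 4, 4, 5, 5],
    [0, 3, 3, 4, 5, 5],
    [0, 1, 1, 2, 3, 4, 5, 5],
    [0, 1, 1, 2, 2, 3, 5, 5],
    [0, 1, 1, 3, 4, 4, 5],
    [0, 1, 2, 2, 4, 5],
    [0, 1, 2, 4, 4],
    [0, 2, 3, 3, 5, 5],
    [0, 1, 5],
    [0, 2, 2, 3, 3, 4, 4, 5],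
    [0, 0, 1, 1, 4, 4, 5, 5],
    [0, 0, 2, 3, 5, 5],
    [0, 0, 1, 1, 2, 2],
    [0, 0, 1, 1, 2, 4],
    [0, 0, 2, 2, 3, 4, 4, 5],
    [0, 0, 1, 3, 3],
    [0, 0, 1, 2, 2, 3, 3, 4],
    [0, 0, 3, 4, 5, 5],
    [0, 0, 1, 2, 3, 3, 4, 4, 5, 5],
    [0, 0, 2, 3, 4, 4, 5, 5],
    [0, 0, 1, 3, 3, 4, 4, 5],
    [0, 0, 1, 1, 2],
    [0, 0, 2, 2, 3, 4],
    [0, 0, 3],
    [0, 0, 1, 2, 3, 3, 4, 5, 5],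
    [0, 0, 1, 1, 2, 2, 4, 4, 5, 5],
    [0, 0, 1, 1, 4],
    [0, 0, 1, 2, 2, 3, 3, 5, 5],
    [0, 5],
    [0, 2, 2, 4, 5],
    [0, 1, 2, 3, 4, 5, 5],
    [0, 1, 2, 2, 3, 5, 5],
    [0, 2, 4, 4],
    [0, 1, 1, 3, 3, 4, 5, 5],
    [0, 1, 1, 2, 2, 3, 3, 4, 4, 5],
    [0, 1, 1, 2, 3, 3, 5, 5],
    [0, 1, 3, 4, 4, 5],
    [2, 3, 4, 4, 5, 5],
    [1, 2, 2, 3, 3, 5, 5],
    [1, 2, 3, 3, 4, 5, 5],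
    [3],
    [1, 1, 4],
    [2, 2, 3, 4],
    [1, 3, 3, 4, 4, 5],
    [1, 1, 2, 2, 4, 4, 5, 5],
    [1, 1, 2],
    [0, 0, 3, 4],
    [0, 0, 1, 1, 2, 4, 5],
    [0, 0, 1, 2, 3, 3, 4, 4],
    [0, 0, 1, 2, 2, 3, 3, 4, 5],
    [0, 0, 2, 3],
    [0, 0, 1, 1, 4, 4],
    [0, 0, 1, 3, 3, 5],
    [0, 0, 2, 2, 3, 4, 4, 5, 5],
    [0, 0, 1, 1, 2, 2, 5],
    [0, 0, 1, 2, 3, 4, 5, 5],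
    [0, 0, 1, 1, 2, 2, 3, 3, 4, 4, 5],
    [0, 0, 2, 2, 4, 5],
    [0, 0, 2, 4, 4],
    [0, 0, 5],
    [0, 0, 1, 1, 3, 3, 4, 5, 5],
    [0, 0, 1, 2, 2, 3, 5, 5],
    [0, 0, 1, 3, 4, 4, 5],
    [0, 0, 1, 1, 2, 3, 3, 5, 5],
    [0, 0, 1, 2, 2, 3, 4],
    [0, 0, 2],
    [0, 0, 2, 2, 4, 4, 5, 5],
    [0, 0, 1, 3],
    [0, 0, 1, 1, 2, 2, 3, 3, 5, 5],
    [0, 0, 4],
    [0, 0, 1, 1, 2, 3, 3, 4, 5, 5],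
    [0, 0, 1, 2, 3, 4, 4, 5, 5],
    [0, 0, 1, 1, 3, 3, 4, 4, 5],
    [0, 0, 1, 1, 3, 4, 4, 5],
    [0, 0, 1, 2, 2, 4, 5],
    [0, 0, 1, 1, 2, 2, 3, 5, 5],
    [0, 0, 1, 1, 2, 3, 4, 5, 5],
    [0, 0, 2, 3, 3, 5, 5],
    [0, 0, 1, 2, 4, 4],
    [0, 0, 3, 3, 4, 5, 5],
    [0, 0, 2, 2, 3, 3, 4, 4, 5],
    [0, 0, 1, 5]]

/-- Conjugation data. -/
def conj3 : List Conj :=
   [(0, [1, 2, 3, 3, 5, 5], [1, 1, 2, 2, 3, 3, 4, 4, 5]),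
    (0, [1, 5], [1, 2, 2, 3, 3, 5, 5]),
    (0, [1, 3, 4, 5, 5], [2, 2, 5, 5]),
    (0, [1, 2, 3, 5, 5], [1, 2, 3, 3, 4, 5]),
    (1, [0, 1, 3, 4, 5, 5], [0, 1, 2, 2, 3, 4, 4, 5]),
    (1, [0, 0, 1, 1, 2, 3, 4], [0, 0, 1, 3, 3, 4, 4, 5]),
    (1, [0, 2, 3, 3, 4, 4], [0, 1, 1, 2, 2, 4, 4]),
    (2, [2, 3, 4, 4], [1, 2, 2, 3]),
    (2, [0, 0, 3, 3, 4, 5], [0, 3, 4, 4]),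
    (2, [0, 1, 1, 3, 5], [0, 0, 1, 1, 2, 2, 4])]

/-- Equations between tails. -/
def cert3 : Cert where
  eqns := [.cons [2, 1, 0] 0 1,
    .cons [3, 1, 0] 0 1,
    .cons [3, 2, 0] 0 1,
    .cons [3, 2, 1] 0 1,
    .cons [4, 2, 0] 0 1,
    .cons [4, 2, 1] 0 1,
    .cons [4, 3, 1] 0 1,
    .cons [1, 1, 1, 0] 0 2,
    .cons [1, 0, 0, 0] 0 1,
    .cons [2, 2, 2, 0] 0 2,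
    .fus [0, 1, 2, 3] [3, 1] [1, 3],
    .fus [0, 1, 2, 3] [0, 0, 0] [],
    .fus [0, 1, 2, 3] [1, 1, 1] [],
    .fus [0, 1, 2, 3] [1, 2, 0] [0, 1, 2],
    .fus [4, 5, 6] [1, 1, 1] [0, 0, 0],
    .fus [4, 5, 6] [2, 2, 2] [0, 0, 0],
    .fus [7, 8, 9] [1, 1, 1] []]
  free := 8
  combo := [[1, 3, 4, 4, 5, 5, 6, 6, 7, 7, 8, 9, 9, 16],
    [],
    [5, 5, 6, 6, 8, 9, 9, 11, 11, 12, 12],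
    [],
    [1, 3, 4, 4, 5, 6, 6, 13],
    [1, 1, 3, 4, 5, 5, 7, 7, 8, 12],
    [1, 6, 6, 9, 11, 12, 14],
    [],
    [],
    [8],
    [1, 3, 4, 5, 5, 6, 7, 7, 8, 9, 9, 10, 12, 12, 13, 14, 14, 15],
    [0, 0, 1, 1, 2, 2, 6],
    [0, 0, 1, 2, 3, 3, 4, 7, 8, 10, 13],
    [2],
    [3, 5, 6, 6, 7, 8, 9, 9],
    [4, 6],
    [5, 6],
    [1, 3, 3, 4, 4, 6, 6],
    [1, 1, 4, 6],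
    [6],
    [1, 1, 4, 5, 5, 7, 7, 8, 8]]

/-- The certificate. -/
def tab3 : TableCert where
  P := pc3
  ews := [[2, 1, 4, 1, 4, 2, 0, 3, 1, 0, 3, 0, 4, 0, 4, 0, 3],
    [0, 2, 1, 4, 3, 2, 1, 4, 1, 0],
    [2, 4, 2, 0, 2, 1, 4, 2, 1, 0, 4, 1, 4, 1, 0],
    [4, 1, 0, 4, 3, 0, 2, 4, 2, 0, 4, 3, 0, 3, 1, 4],
    [4, 1, 3, 1, 4, 1, 0, 4, 0, 4, 1, 3, 1, 4, 1, 3, 0, 3],
    [1, 0, 4, 0, 2, 4, 3, 2, 4, 0, 4, 1, 0, 3, 0, 4, 3, 0]]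
  gws := [[4, 1, 0, 3, 1, 4, 3, 2, 0, 2, 0, 4, 2, 0, 4, 2, 0, 4, 2, 0],
    [2, 0, 4, 1, 4, 2, 1, 0, 3, 2, 4, 2, 4, 0, 4, 1, 3, 2, 0, 3, 0],
    [3, 0, 3, 0, 4, 2, 0, 2, 1, 4, 3, 0, 3, 2, 1, 0, 4, 2, 1]]
  C := conj3
  K := cert3
  els := els3

theorem tab3_rel : tab3.chkRel McLOut.actA McLOut.ptsA = true := by decide +kernel

theorem tab3_card : tab3.chkCard McLOut.actA McLOut.ptsA = true := by decide +kernel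

theorem tab3_tails : tab3.K.check tab3.P tab3.C = true := by decide +kernel

theorem pow_free3 : Cfsg.Agent.Spor.Cos.ev McLOut.g (tab3.flat (List.replicate 3 3)) = Cfsg.Agent.Spor.Cos.ev McLOut.g [] :=
  Cfsg.Agent.Spor.Cos.ev_eq_of_agree McLOut.homA McLOut.det (by decide +kernel) (by decide +kernel) (by decide +kernel)

/-- The certificate with exponent three. -/
theorem sylow3 : ∃ S : SylowExp McLOut.H 3, S.m = 3 :=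
  TableCert.sylowExp_m McLOut.homA (by decide +kernel) McLOut.det McLOut.card_H rfl (by decide) tab3_rel tab3_card tab3_tails
    (j := 3) (i := 2) (by decide +kernel) rfl rfl (m := 3) pow_free3 (by decide +kernel)

end Cfsg.Agent.Spor.Cos.McLMult
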