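import Cfsg.Agent.Lib.Grp.SchurM.TailTable
import Cfsg.Agent.Lib.Spor.Cos.Sift
import Cfsg.Agent.Lib.Spor.Cos.McLOut.Rep

/-! A Sylow 5-subgroup of the group on 275 points with equations for the tails. -/

set_option autoImplicit false
set_option maxRecDepth 100000
set_option maxHeartbeats 8000000

open Cfsg.Agent.Spor.Cos Cfsg.Agent.Grp.SchurM.Tails

namespace Cfsg.Agent.Spor.Cos.McLMult

/-- Presentation of the Sylow 5-subgroup. -/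
def pc5 : PC where
  p := 5
  n := 3
  rhs := [[],
    [0, 1, 2],
    [],
    [0, 2],
    [1, 2],
    []]
  defs := [(2, 1, 0)]

/-- Elements of the Sylow 5-subgroup. -/
def els5 : List (List ℕ) :=
   [[],
    [0, 0, 0, 1, 1, 1, 1],
    [0, 0, 1, 2, 2],
    [0, 1, 1, 1, 2, 2],
    [0, 0, 0, 0, 1, 1, 2],
    [1, 1, 1, 2],
    [0, 0, 1, 1, 1, 1, 2, 2, 2, 2],
    [0, 0, 0, 1, 1],
    [0, 1, 2],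
    [0, 0, 0, 0, 2, 2, 2, 2],
    [0, 1, 1, 2, 2, 2, 2],
    [0, 0, 0, 1, 1, 1],
    [0, 0, 2, 2, 2],
    [1, 1, 1, 1, 2, 2, 2],
    [0, 0, 0, 0, 1],
    [0, 0, 1, 1, 1],
    [0, 2, 2, 2],
    [0, 0, 0, 1],
    [1, 1, 2, 2, 2, 2],
    [0, 0, 0, 0, 1, 1, 1, 1, 2, 2, 2],
    [0, 1, 1, 1, 1],
    [1, 2, 2],
    [0, 0, 0],
    [0, 0, 1, 1, 2],
    [0, 0, 0, 0, 1, 1, 1, 2, 2],
    [0, 0, 0, 1, 1, 2, 2, 2, 2],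
    [0, 0, 0, 0, 2, 2, 2],
    [0, 1],
    [0, 0, 1, 1, 1, 1, 2, 2, 2],
    [1, 1, 1],
    [0, 1, 2, 2],
    [0, 0, 0, 0],
    [0, 0, 1, 1, 1, 1],
    [0, 0, 0, 1, 1, 2],
    [1, 1, 1, 2, 2],
    [0, 0, 0, 2, 2, 2],
    [0, 0, 1, 1, 2, 2, 2, 2],
    [0, 0, 0, 0, 1, 1, 1],
    [0, 1, 1, 1, 1, 2, 2, 2],
    [1],
    [0, 0, 0, 0, 1, 1],
    [0, 0, 1, 2],
    [0, 1, 1, 1, 2],
    [0, 0, 0, 1, 1, 1, 1, 2, 2, 2, 2],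
    [2, 2, 2, 2],
    [0, 0, 0, 0, 1, 1, 1, 1],
    [0, 0, 0, 1, 2, 2],
    [0],
    [1, 1, 2],
    [0, 0, 1, 1, 1, 2, 2],
    [0, 0, 0, 1, 1, 1, 2, 2, 2],
    [0, 1, 1, 2, 2],
    [0, 0, 2],
    [1, 1, 1, 1, 2],
    [0, 0, 0, 0, 1, 2, 2, 2],
    [0, 0, 0, 0, 1, 1, 1, 1, 2, 2],
    [0, 2, 2],
    [1, 1, 2, 2, 2],
    [0, 0, 0, 1, 2, 2, 2, 2],
    [0, 0, 1, 1, 1, 2, 2, 2, 2],
    [1, 2, 2, 2, 2],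
    [0, 0, 0, 0, 1, 1, 1, 2, 2, 2, 2],
    [0, 0, 0, 2, 2],
    [0, 1, 1, 1, 1, 2, 2],
    [0, 0, 1, 1, 2, 2, 2],
    [0, 0, 1, 1, 1, 2],
    [0, 2, 2, 2, 2],
    [0, 0, 0, 0, 1, 1, 1, 1, 2, 2, 2, 2],
    [0, 0, 0, 1, 2],
    [1, 1],
    [0, 0, 0, 0, 1, 2, 2],
    [1, 1, 1, 1],
    [0, 0, 0, 1, 1, 1, 2, 2],
    [0, 1, 1, 2],
    [0, 0],
    [0, 0, 1, 1, 2, 2],
    [0, 0, 0, 0, 1, 1, 1, 2, 2, 2],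
    [0, 1, 1, 1, 1, 2],
    [0, 0, 0, 2],
    [1, 2, 2, 2],
    [0, 1, 2, 2, 2, 2],
    [1, 1, 1, 2, 2, 2, 2],
    [0, 0, 0, 1, 1, 2, 2, 2],
    [0, 0, 1, 1, 1, 1, 2, 2],
    [0, 0, 0, 0, 2, 2],
    [1, 1, 1, 1, 2, 2],
    [0, 0, 0, 0, 1, 2, 2, 2, 2],
    [0, 0, 2, 2],
    [0, 1, 1, 2, 2, 2],
    [0, 0, 0, 1, 1, 1, 2, 2, 2, 2],
    [0, 1, 1, 1, 2, 2, 2],
    [0, 0, 0, 0, 1, 1, 2, 2],
    [0, 0, 1, 2, 2, 2],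
    [2],
    [0, 0, 0, 1, 1, 1, 1, 2],
    [2, 2, 2],
    [0, 0, 0, 1, 1, 1, 1, 2, 2, 2],
    [0, 1, 1, 1],
    [0, 0, 1],
    [0, 0, 0, 0, 1, 1, 2, 2, 2, 2],
    [0, 0, 0, 1, 1, 1, 1, 2, 2],
    [0, 0, 1, 2, 2, 2, 2],
    [0, 0, 0, 0, 1, 1, 2, 2, 2],
    [2, 2],
    [0, 1, 1, 1, 2, 2, 2, 2],
    [1, 1, 2, 2],
    [0, 0, 1, 1, 1, 2, 2, 2],
    [0, 0, 0, 1, 2, 2, 2],
    [0, 2],
    [0, 0, 0, 0, 1, 1, 1, 1, 2],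
    [0, 0, 0, 0, 1, 1, 1, 2],
    [0, 1, 1, 1, 1, 2, 2, 2, 2],
    [0, 0, 0, 2, 2, 2, 2],
    [0, 0, 1, 1],
    [1, 2],
    [0, 0, 2, 2, 2, 2],
    [0, 1, 1],
    [0, 0, 0, 0, 1, 2],
    [1, 1, 1, 1, 2, 2, 2, 2],
    [0, 0, 0, 1, 1, 1, 2],
    [1, 1, 1, 2, 2, 2],
    [0, 0, 0, 1, 1, 2, 2],
    [0, 0, 0, 0, 2],
    [0, 0, 1, 1, 1, 1, 2],
    [0, 1, 2, 2, 2]]

/-- Conjugation data. -/
def conj5 : List Conj :=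
   [(0, [0, 1, 1, 1, 2, 2, 2], [1, 1, 2, 2]),
    (0, [0, 1, 1], [0, 0, 0, 0, 1, 1, 1, 1, 2, 2, 2, 2])]

/-- Equations between tails. -/
def cert5 : Cert where
  eqns := [.cons [1, 1, 1, 1, 1, 0] 0 4,
    .fus [0, 1] [1, 0, 0, 1] [0, 1, 1, 0],
    .fus [0, 1] [0, 0, 0, 0, 0] [],
    .fus [0, 1] [1, 0, 0, 0, 1] [0, 1, 0, 1, 0],
    .fus [0, 1] [1, 1, 1, 1, 1] []]
  free := 6
  combo := [[0, 0, 0, 0, 2, 2, 2, 4, 4, 4, 4],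
    [],
    [0, 0, 0, 0, 2, 2, 2, 4],
    [0, 1, 1, 3, 3, 3, 3],
    [1, 1],
    [0, 0, 0, 0]]

/-- The certificate. -/
def tab5 : TableCert where
  P := pc5
  ews := [[4, 3, 0, 3, 0, 2, 4, 0, 4, 1, 4, 0, 4, 2, 0, 3, 2, 0, 2, 1, 0],
    [0, 3, 1, 4, 0, 3, 1, 0, 4, 0, 2, 4, 2, 0, 2, 4, 0, 4],
    [1, 3, 1, 4, 0, 3, 0, 3, 1, 4, 0, 2, 4, 0, 2, 4, 0, 4, 2, 0]]
  gws := [[4, 0, 3, 2, 0, 2, 4, 3, 1, 3, 0, 3, 0, 4, 0, 2, 4, 1, 0]]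
  C := conj5
  K := cert5
  els := els5

theorem tab5_rel : tab5.chkRel McLOut.actA McLOut.ptsA = true := by decide +kernel

theorem tab5_card : tab5.chkCard McLOut.actA McLOut.ptsA = true := by decide +kernel

theorem tab5_tails : tab5.K.check tab5.P tab5.C = true := by decide +kernel

theorem sylow5 : Nonempty (SylowCert McLOut.H 5) :=
  TableCert.sylowCert McLOut.homA (by decide +kernel) McLOut.det McLOut.card_H rfl (by decide) tab5_rel tab5_card tab5_tails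
    (le_of_eq rfl) (by decide +kernel)

end Cfsg.Agent.Spor.Cos.McLMult
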