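import Cfsg.Agent.Lib.Spor.Cos.McLMult.Tail2
import Cfsg.Agent.Lib.Spor.Cos.McLMult.Tail3
import Cfsg.Agent.Lib.Spor.Cos.McLMult.Tail5
import Cfsg.Agent.Lib.Spor.Cos.McLMult.Tail7
import Cfsg.Agent.Lib.Spor.Cos.McLMult.Tail11
import Cfsg.Agent.Lib.Spor.Cos.McLMult.Cover
import Cfsg.Agent.Lib.Grp.SchurM.SylowBounds

/-! The multiplier of the group on 275 points is cyclic of order three. -/

set_option autoImplicit false
set_option maxRecDepth 100000
set_option maxHeartbeats 4000000

open Cfsg Cfsg.Agent.Spor.Cos Cfsg.Agent.Grp.SchurM Cfsg.Agent.Grp.SchurM.Tails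

namespace Cfsg.Agent.Spor.Cos.McLMult

/-- Stem kernels are generated by an element of order dividing three. -/
theorem exists_gen {Δ : Type} [Group Δ] [Finite Δ] (σ : Δ →* McLOut.H) (hσ : Cfsg.IsStemExtension σ) :
    ∃ c ∈ σ.ker, c ^ 3 = 1 ∧ σ.ker ≤ Subgroup.zpowers c := by
  obtain ⟨S, hS⟩ := sylow3
  have h := exists_gen_of_exp S (fun q hq hne hd => ?_) σ hσ
  · rwa [hS] at h
  rw [McLOut.card_H, show 898128000 = 2 ^ 7 * 3 ^ 6 * 5 ^ 3 * 7 * 11 by norm_num] at hd
  have key : ∀ r : ℕ, r.Prime → q ∣ r → q = r := fun r hr h => (Nat.prime_dvd_prime_iff_eq hq hr).1 h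
  rcases (Nat.Prime.dvd_mul hq).1 hd with hd | h11
  · rcases (Nat.Prime.dvd_mul hq).1 hd with hd | h7
    · rcases (Nat.Prime.dvd_mul hq).1 hd with hd | h5
      · rcases (Nat.Prime.dvd_mul hq).1 hd with h2 | h3
        · obtain rfl := key 2 Nat.prime_two (hq.dvd_of_dvd_pow h2)
          exact sylow2
        · exact absurd (key 3 Nat.prime_three (hq.dvd_of_dvd_pow h3)) hne
      · obtain rfl := key 5 (by norm_num) (hq.dvd_of_dvd_pow h5)
        exact sylow5
    · obtain rfl := key 7 (by norm_num) h7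
      exact sylow7
  · obtain rfl := key 11 (by norm_num) h11
    exact sylow11

theorem multiplier : Cfsg.HasCyclicSchurMultiplier ↥Cfsg.Spor.McL 3 := by
  classical
  let e : McLOut.H ≃* ↥Cfsg.Spor.McL := McLOut.equivMcL.symm
  refine ⟨?_, fun Δ _ _ σ hσ => ?_⟩
  · obtain ⟨Γ₀, _, _, σ₀, hst, hcard⟩ := exists_cover
    have : Fact (Nat.Prime 3) := ⟨Nat.prime_three⟩
    have := isCyclic_of_prime_card hcard
    have k : σ₀.ker ≃* Multiplicative (ZMod 3) := mulEquivOfCyclicCardEq (hcard.trans (by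
      rw [Nat.card_eq_fintype_card, Fintype.card_multiplicative, ZMod.card]))
    let U := Γ₀
    let up : U ≃* Γ₀ := MulEquiv.refl _
    let q : U →* ↥Cfsg.Spor.McL :=
      e.toMonoidHom.comp (σ₀.comp up.toMonoidHom)
    have hker : q.ker = σ₀.ker.comap up.toMonoidHom := by
      ext x
      simp only [q, Subgroup.mem_comap, MonoidHom.mem_ker, MonoidHom.comp_apply, MulEquiv.coe_toMonoidHom,
        map_eq_one_iff e e.injective]
    refine ⟨U, inferInstance, inferInstance, q, ⟨e.surjective.comp (hst.1.comp up.surjective), ?_, ?_⟩, ?_⟩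
    · intro x hx
      rw [hker] at hx
      refine Subgroup.mem_center_iff.2 fun y => up.injective ?_
      rw [map_mul, map_mul]
      exact Subgroup.mem_center_iff.1 (hst.2.1 hx) (up y)
    · intro x hx
      rw [hker] at hx
      have : up x ∈ (commutator U).map up.toMonoidHom := by
        rw [commutator_def, Subgroup.map_commutator, Subgroup.map_top_of_surjective up.toMonoidHom up.surjective,
          ← commutator_def]
        exact hst.2.2 hx
      obtain ⟨y, hy, hyx⟩ := this
      rwa [← up.injective hyx]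
    · let eq : σ₀.ker.comap up.toMonoidHom ≃* σ₀.ker :=
        { toFun := fun x => ⟨up x.1, x.2⟩
          invFun := fun y => ⟨up.symm y.1, by
            rw [Subgroup.mem_comap]; show up (up.symm y.1) ∈ σ₀.ker; rw [up.apply_symm_apply]; exact y.2⟩
          left_inv := fun x => Subtype.ext (up.symm_apply_apply _)
          right_inv := fun y => Subtype.ext (up.apply_symm_apply _)
          map_mul' := fun x y => Subtype.ext (map_mul up x.1 y.1) }
      exact ⟨((MulEquiv.subgroupCongr hker).trans eq).trans k⟩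
  · have hker : (e.symm.toMonoidHom.comp σ).ker = σ.ker := MonoidHom.ker_mulEquiv_comp σ e.symm
    obtain ⟨c, hc, hc3, hle⟩ := exists_gen (e.symm.toMonoidHom.comp σ)
      ⟨e.symm.surjective.comp hσ.1, hker.le.trans hσ.2.1, hker.le.trans hσ.2.2⟩
    rw [hker] at hc hle
    exact exists_surjective_zmod _ c hc hc3 hle

end Cfsg.Agent.Spor.Cos.McLMult
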